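import Cfsg.Agent.Lib.CITFilter.Main
import Cfsg.Prelude.Def_Exceptional

/-!
# Assembly: simple groups with at most one composite element order

The classification of CIT groups, the uniqueness of the Suzuki groups and the case of an element of
order `2r` are hypotheses here; the statement files supply them.
-/

set_option autoImplicit false

namespace CfsgLib.CITFilter

open Matrix

universe u

variable {G : Type u} [Group G] [Finite G] [IsSimpleGroup G]

/-- From the list of the classification of CIT groups to the candidates. -/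
theorem candidate_of_list
    (hlist : (∃ (F : Type) (_ : Field F) (_ : Fintype F),
        (Fintype.card F = 9 ∨ (∃ n : ℕ, Fintype.card F = 2 ^ n) ∨
          ((Fintype.card F).Prime ∧ ∃ k : ℕ, Fintype.card F = 2 ^ k + 1 ∨
            Fintype.card F + 1 = 2 ^ k)) ∧
        Nonempty (G ≃* ProjectiveSpecialLinearGroup (Fin 2) F)) ∨
      (∃ (F : Type) (_ : Field F) (_ : Fintype F), Fintype.card F = 4 ∧
        Nonempty (G ≃* ProjectiveSpecialLinearGroup (Fin 3) F)) ∨
      Cfsg.IsSuzuki G)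
    (hSz : Cfsg.IsSuzuki G → ∃ (F : Type) (_ : Field F) (_ : Fintype F) (m : ℕ),
      Suzuki.SzHyp F m ∧ Nonempty (G ≃* Cfsg.Sz F m)) : Candidate G := by
  rcases hlist with ⟨F, i1, i2, -, he⟩ | h | h
  · exact Or.inl ⟨F, i1, i2, he⟩
  · exact Or.inr (Or.inl h)
  · exact Or.inr (Or.inr (hSz h))

/-- S3718 from the classification of CIT groups, Suzuki uniqueness and the `2r` case. -/
theorem simple_oneComposite (h : OneComposite G)
    (hCIT : (∃ a b : G, a * b ≠ b * a) →
      (∀ t : G, orderOf t = 2 → IsPGroup 2 (Subgroup.centralizer ({t} : Set G))) → Candidate G)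
    (hCore : (∃ a b : G, a * b ≠ b * a) → ∀ r : ℕ, r.Prime → r ≠ 2 →
      (∀ g : G, 2 ∣ orderOf g → orderOf g = 2 ∨ orderOf g = 2 * r) →
      (∀ g : G, r ∣ orderOf g → orderOf g = r ∨ orderOf g = 2 * r) →
      (∀ t : G, orderOf t = 2 → IsPGroup 2 (Subgroup.centralizer ({t} : Set G))) ∨
        ∃ (F : Type) (_ : Field F) (_ : Fintype F), Odd (Fintype.card F) ∧
          Nonempty (G ≃* ProjectiveSpecialLinearGroup (Fin 2) F)) :
    (Nat.card G).Prime ∨
    (∃ (F : Type) (_ : Field F) (_ : Fintype F), (Fintype.card F = 5 ∨ Fintype.card F = 7 ∨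
        Fintype.card F = 8 ∨ Fintype.card F = 9 ∨ Fintype.card F = 11 ∨ Fintype.card F = 13 ∨
        Fintype.card F = 16) ∧ Nonempty (G ≃* ProjectiveSpecialLinearGroup (Fin 2) F)) ∨
    (∃ (F : Type) (_ : Field F) (_ : Fintype F), Fintype.card F = 4 ∧
        Nonempty (G ≃* ProjectiveSpecialLinearGroup (Fin 3) F)) ∨
    (∃ (F : Type) (_ : Field F) (_ : Fintype F), Fintype.card F = 8 ∧
        Nonempty (G ≃* ↥(Cfsg.Lie.Sz F 4))) ∨
    (∃ (F : Type) (_ : Field F) (_ : Fintype F), ∃ n r s : ℕ, r.Prime ∧ s.Prime ∧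
        3 ^ n - 1 = 2 * r ∧ 3 ^ n + 1 = 4 * s ∧
        Fintype.card F = 3 ^ n ∧ Nonempty (G ≃* ProjectiveSpecialLinearGroup (Fin 2) F)) ∨
    (∃ (F : Type) (_ : Field F) (_ : Fintype F), ∃ n r : ℕ, (2 ^ n - 1).Prime ∧ r.Prime ∧
        2 ^ n + 1 = 3 * r ∧
        Fintype.card F = 2 ^ n ∧ Nonempty (G ≃* ProjectiveSpecialLinearGroup (Fin 2) F)) := by
  by_cases hab : ∃ a b : G, a * b ≠ b * a
  · refine Or.inr (conclusion_oneComposite hab h ?_)
    rcases h.split with hC | ⟨r, hr, hr2, h2, hrd⟩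
    · exact hCIT hab hC
    · rcases hCore hab r hr hr2 h2 hrd with hC | ⟨F, i1, i2, -, he⟩
      · exact hCIT hab hC
      · exact Or.inl ⟨F, i1, i2, he⟩
  · push Not at hab
    letI : CommGroup G := { ‹Group G› with mul_comm := hab }
    exact Or.inl IsSimpleGroup.prime_card

end CfsgLib.CITFilter
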