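import Cfsg.Agent.Lib.CITFilter.Numbers
import Cfsg.Agent.Lib.SL2Trace.Orders
import Cfsg.Agent.Lib.SL2Trace.Products
import Cfsg.Agent.S0252
import Cfsg.Agent.S0253

/-!
# Element-order filters for `PSL₂(q)`
-/

set_option autoImplicit false

namespace CfsgLib.CITFilter

open Matrix

variable {G : Type*} [Group G]

/-- The two torus orders of `PSL₂(F)`. -/
theorem exists_orders {F : Type*} [Field F] [Fintype F] (h4 : 4 ≤ Fintype.card F)
    (e : G ≃* ProjectiveSpecialLinearGroup (Fin 2) F) :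
    (∃ x : G, orderOf x = (Fintype.card F - 1) / Nat.gcd 2 (Fintype.card F - 1)) ∧
      ∃ x : G, orderOf x = (Fintype.card F + 1) / Nat.gcd 2 (Fintype.card F - 1) := by
  constructor
  · obtain ⟨τ, hτ, hu⟩ := SL2Trace.exists_isotropic_trace (F := F) h4
    obtain ⟨g, hg⟩ := SL2Trace.exists_orderOf_toPSL τ hτ _
      ((SL2Trace.card_centralizer_comp τ hτ).1 hu) rfl
    exact ⟨e.symm g, by rw [MulEquiv.orderOf_eq, hg]⟩
  · obtain ⟨τ, hu⟩ := SL2Trace.exists_anisotropic_trace (F := F)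
    have hτ : τ ^ 2 ≠ 4 := fun h => hu (SL2Trace.exists_root_of_sq_eq_four τ h)
    obtain ⟨g, hg⟩ := SL2Trace.exists_orderOf_toPSL τ hτ _
      ((SL2Trace.card_centralizer_comp τ hτ).2 hu) (by omega)
    exact ⟨e.symm g, by rw [MulEquiv.orderOf_eq, hg]⟩

theorem gcd_two_of_even {q : ℕ} (h : q % 2 = 0) (h1 : 1 ≤ q) : Nat.gcd 2 (q - 1) = 1 := by
  rw [Nat.gcd_rec, show (q - 1) % 2 = 1 by omega, Nat.gcd_one_left]

theorem gcd_two_of_odd {q : ℕ} (h : q % 2 = 1) : Nat.gcd 2 (q - 1) = 2 :=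
  Nat.gcd_eq_left (Nat.dvd_of_mod_eq_zero (by omega))

theorem exists_five {F : Type} [Field F] [Fintype F] (hF : Fintype.card F = 4)
    (e : G ≃* ProjectiveSpecialLinearGroup (Fin 2) F) :
    ∃ (F' : Type) (_ : Field F') (_ : Fintype F'), Fintype.card F' = 5 ∧
      Nonempty (G ≃* ProjectiveSpecialLinearGroup (Fin 2) F') := by
  haveI : Fact (Nat.Prime 5) := ⟨by norm_num⟩
  obtain ⟨e4⟩ := Cfsg.Agent.S0252.result (F := F) hF
  obtain ⟨e5⟩ := Cfsg.Agent.S0253.result (F := ZMod 5) (ZMod.card 5)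
  exact ⟨ZMod 5, inferInstance, inferInstance, ZMod.card 5, ⟨(e.trans e4).trans e5.symm⟩⟩

theorem exists_four {F : Type} [Field F] [Fintype F] (hF : Fintype.card F = 5)
    (e : G ≃* ProjectiveSpecialLinearGroup (Fin 2) F) :
    ∃ (F' : Type) (_ : Field F') (_ : Fintype F'), CharP F' 2 ∧ Fintype.card F' = 4 ∧
      Nonempty (G ≃* ProjectiveSpecialLinearGroup (Fin 2) F') := by
  letI : Fintype (GaloisField 2 2) := Fintype.ofFinite _
  have h4 : Fintype.card (GaloisField 2 2) = 4 := by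
    rw [← Nat.card_eq_fintype_card, GaloisField.card 2 2 two_ne_zero]
    norm_num
  obtain ⟨e4⟩ := Cfsg.Agent.S0252.result (F := GaloisField 2 2) h4
  obtain ⟨e5⟩ := Cfsg.Agent.S0253.result (F := F) hF
  exact ⟨GaloisField 2 2, inferInstance, inferInstance, inferInstance, h4,
    ⟨(e.trans e5).trans e4.symm⟩⟩

/-- `PSL₂(q)` with at most one composite element order. -/
theorem psl_oneComposite [Finite G] (h : OneComposite G) {F : Type} [Field F] [Fintype F]
    (h4 : 4 ≤ Fintype.card F) (e : G ≃* ProjectiveSpecialLinearGroup (Fin 2) F) :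
    (∃ (F : Type) (_ : Field F) (_ : Fintype F), (Fintype.card F = 5 ∨ Fintype.card F = 7 ∨
        Fintype.card F = 8 ∨ Fintype.card F = 9 ∨ Fintype.card F = 11 ∨ Fintype.card F = 13 ∨
        Fintype.card F = 16) ∧ Nonempty (G ≃* ProjectiveSpecialLinearGroup (Fin 2) F)) ∨
    (∃ (F : Type) (_ : Field F) (_ : Fintype F), ∃ n r s : ℕ, r.Prime ∧ s.Prime ∧
        3 ^ n - 1 = 2 * r ∧ 3 ^ n + 1 = 4 * s ∧
        Fintype.card F = 3 ^ n ∧ Nonempty (G ≃* ProjectiveSpecialLinearGroup (Fin 2) F)) ∨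
    (∃ (F : Type) (_ : Field F) (_ : Fintype F), ∃ n r : ℕ, (2 ^ n - 1).Prime ∧ r.Prime ∧
        2 ^ n + 1 = 3 * r ∧
        Fintype.card F = 2 ^ n ∧ Nonempty (G ≃* ProjectiveSpecialLinearGroup (Fin 2) F)) := by
  obtain ⟨p, hpc⟩ := CharP.exists F
  obtain ⟨⟨n, hn0⟩, hp, hcard⟩ := FiniteField.card F p
  simp only [PNat.mk_coe] at hcard
  obtain ⟨⟨x, hx⟩, y, hy⟩ := exists_orders h4 e
  rcases Nat.mod_two_eq_zero_or_one (Fintype.card F) with hev | hodd
  · -- even q
    rw [gcd_two_of_even hev (by omega), Nat.div_one] at hx hy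
    obtain rfl : p = 2 := by
      refine ((Nat.prime_dvd_prime_iff_eq Nat.prime_two hp).1 ?_).symm
      exact Nat.prime_two.dvd_of_dvd_pow (hcard ▸ Nat.dvd_of_mod_eq_zero hev)
    rcases Nat.lt_or_ge n 5 with hn | hn
    · interval_cases n
      · norm_num at hcard; omega
      · exact Or.inl (by
          obtain ⟨F', i1, i2, hc, he⟩ := exists_five (by simpa using hcard) e
          exact ⟨F', i1, i2, Or.inl hc, he⟩)
      · exact Or.inl ⟨F, inferInstance, inferInstance, by norm_num at hcard; omega, ⟨e⟩⟩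
      · exact Or.inl ⟨F, inferInstance, inferInstance, by norm_num at hcard; omega, ⟨e⟩⟩
    right; right
    rw [hcard] at hx hy hev
    rcases Nat.even_or_odd n with ⟨m, rfl⟩ | ⟨m, rfl⟩
    · -- `(2^m - 1) * (2^m + 1)` has a factor three
      exfalso
      have hm : 8 ≤ 2 ^ m := le_trans (by norm_num) (Nat.pow_le_pow_right two_pos (show 3 ≤ m by omega))
      rw [pow_add] at hx
      have hmul : 2 ^ m * 2 ^ m - 1 = (2 ^ m - 1) * (2 ^ m + 1) := by
        rw [mul_comm (2 ^ m - 1)]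
        simpa using Nat.mul_self_sub_mul_self_eq (2 ^ m) 1
      rw [hmul] at hx
      have p1 : (2 ^ m + 1).Prime := h.prime_cofactor hx (by omega) (by omega)
      have p2 : (2 ^ m - 1).Prime :=
        h.prime_cofactor (s := 2 ^ m + 1) (by rw [hx]; ring) (by omega) (by omega)
      have h3 : 2 ^ m % 3 ≠ 0 := fun h0 => by
        have := (Nat.prime_three.dvd_of_dvd_pow (Nat.dvd_of_mod_eq_zero h0))
        norm_num at this
      rcases (show 2 ^ m % 3 = 1 ∨ 2 ^ m % 3 = 2 by omega) with h' | h'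
      · have := (Nat.prime_dvd_prime_iff_eq Nat.prime_three p2).1
          (Nat.dvd_of_mod_eq_zero (show (2 ^ m - 1) % 3 = 0 by omega))
        omega
      · have := (Nat.prime_dvd_prime_iff_eq Nat.prime_three p1).1
          (Nat.dvd_of_mod_eq_zero (show (2 ^ m + 1) % 3 = 0 by omega))
        omega
    · have h32 : 32 ≤ 2 ^ (2 * m + 1) :=
        le_trans (by norm_num) (Nat.pow_le_pow_right two_pos hn)
      have h3 : 2 ^ (2 * m + 1) % 3 = 2 := by
        rw [pow_succ, pow_mul, Nat.mul_mod, Nat.pow_mod]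
        norm_num
      obtain ⟨r, hr⟩ := Nat.dvd_of_mod_eq_zero (show (2 ^ (2 * m + 1) + 1) % 3 = 0 by omega)
      rw [hr] at hy
      have hrp : r.Prime := h.prime_cofactor hy (by norm_num) (by omega)
      refine ⟨F, inferInstance, inferInstance, 2 * m + 1, r, ?_, hrp, hr, hcard, ⟨e⟩⟩
      by_contra hxp
      have := h.eq (x := x) (y := y) (by omega) (by rwa [hx])
        (by omega) (by rw [hy]; exact Nat.not_prime_mul (by norm_num) hrp.ne_one)
      rw [hx, hy, ← hr] at this
      generalize 2 ^ (2 * m + 1) = N at this h32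
      omega
  · -- odd q
    rw [gcd_two_of_odd hodd] at hx hy
    -- the even one `a` and the odd one `b`
    obtain ⟨a, b, u, v, hu, hv, ha2, hb2, hab⟩ : ∃ (a b : ℕ) (u v : G), orderOf u = a ∧
        orderOf v = b ∧ a % 2 = 0 ∧ b % 2 = 1 ∧
        (a = (Fintype.card F - 1) / 2 ∧ b = (Fintype.card F + 1) / 2 ∨
          a = (Fintype.card F + 1) / 2 ∧ b = (Fintype.card F - 1) / 2) := by
      rcases (show Fintype.card F % 4 = 1 ∨ Fintype.card F % 4 = 3 by omega) with h' | h'
      · exact ⟨_, _, x, y, hx, hy, by omega, by omega, Or.inl ⟨rfl, rfl⟩⟩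
      · exact ⟨_, _, y, x, hy, hx, by omega, by omega, Or.inr ⟨rfl, rfl⟩⟩
    by_cases h5 : Fintype.card F = 5
    · exact Or.inl ⟨F, inferInstance, inferInstance, Or.inl h5, ⟨e⟩⟩
    obtain ⟨s, hs⟩ := Nat.dvd_of_mod_eq_zero ha2
    rw [hs] at hu
    have hsp : s.Prime := h.prime_cofactor hu (by norm_num) (by omega)
    have hbp : b.Prime := by
      by_contra hbp
      have := h.eq (x := u) (y := v) (by omega)
        (by rw [hu]; exact Nat.not_prime_mul (by norm_num) hsp.ne_one) (by omega) (by rwa [hv])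
      omega
    by_cases h3 : Fintype.card F % 3 = 0
    · obtain rfl : p = 3 := by
        refine ((Nat.prime_dvd_prime_iff_eq Nat.prime_three hp).1 ?_).symm
        exact Nat.prime_three.dvd_of_dvd_pow (hcard ▸ Nat.dvd_of_mod_eq_zero h3)
      rcases (show Fintype.card F % 4 = 1 ∨ Fintype.card F % 4 = 3 by omega) with h' | h'
      · -- even exponent
        rcases Nat.even_or_odd n with ⟨m, rfl⟩ | ⟨m, rfl⟩
        · have h8 : Fintype.card F % 8 = 1 := by
            rw [hcard, ← two_mul, pow_mul, Nat.pow_mod]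
            norm_num
          have hs2 : 2 ∣ s := Nat.dvd_of_mod_eq_zero (by omega)
          have := (Nat.prime_dvd_prime_iff_eq Nat.prime_two hsp).1 hs2
          exact Or.inl ⟨F, inferInstance, inferInstance, by omega, ⟨e⟩⟩
        · exfalso
          rw [hcard, pow_succ, pow_mul, Nat.mul_mod, Nat.pow_mod] at h'
          norm_num at h'
      · exact Or.inr (Or.inl ⟨F, inferInstance, inferInstance, n, b, s, hbp, hsp, by omega,
          by omega, hcard, ⟨e⟩⟩)
    · refine Or.inl ⟨F, inferInstance, inferInstance, ?_, ⟨e⟩⟩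
      rcases (show s % 3 = 0 ∨ b % 3 = 0 by
        rcases (show s % 3 = 0 ∨ s % 3 = 1 ∨ s % 3 = 2 by omega) with h | h | h <;>
          rcases hab with ⟨ha, hb⟩ | ⟨ha, hb⟩ <;> omega) with h' | h'
      · have := (Nat.prime_dvd_prime_iff_eq Nat.prime_three hsp).1
          (Nat.dvd_of_mod_eq_zero h')
        omega
      · have := (Nat.prime_dvd_prime_iff_eq Nat.prime_three hbp).1 (Nat.dvd_of_mod_eq_zero h')
        omega

/-- `PSL₂(q)` in which no prime divides three element orders. -/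
theorem psl_noThree [Finite G] (h : NoThree G) {F : Type} [Field F] [Fintype F]
    (h4 : 4 ≤ Fintype.card F) (e : G ≃* ProjectiveSpecialLinearGroup (Fin 2) F) :
    (∃ (F : Type) (_ : Field F) (_ : Fintype F), CharP F 2 ∧ 4 ≤ Fintype.card F ∧
        (Fintype.card F + 1).primeFactorsList.length ≤ 2 ∧
        (Fintype.card F - 1).primeFactorsList.length ≤ 2 ∧
        Nonempty (G ≃* ProjectiveSpecialLinearGroup (Fin 2) F)) ∨
    (∃ (F : Type) (_ : Field F) (_ : Fintype F), 5 < Fintype.card F ∧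
        (Fintype.card F % 8 = 3 ∨ Fintype.card F % 8 = 5) ∧
        ((Fintype.card F + 1) / 2).primeFactorsList.length ≤ 2 ∧
        ((Fintype.card F - 1) / 2).primeFactorsList.length ≤ 2 ∧
        Nonempty (G ≃* ProjectiveSpecialLinearGroup (Fin 2) F)) ∨
    (∃ (F : Type) (_ : Field F) (_ : Fintype F), (Fintype.card F = 7 ∨ Fintype.card F = 9) ∧
        Nonempty (G ≃* ProjectiveSpecialLinearGroup (Fin 2) F)) := by
  obtain ⟨⟨x, hx⟩, y, hy⟩ := exists_orders h4 e
  have hlx := h.length_le x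
  have hly := h.length_le y
  rw [hx] at hlx
  rw [hy] at hly
  obtain ⟨p, hpc⟩ := CharP.exists F
  obtain ⟨⟨n, hn0⟩, hp, hcard⟩ := FiniteField.card F p
  simp only [PNat.mk_coe] at hcard
  rcases Nat.mod_two_eq_zero_or_one (Fintype.card F) with hev | hodd
  · rw [gcd_two_of_even hev (by omega), Nat.div_one] at hlx hly
    obtain rfl : p = 2 := by
      refine ((Nat.prime_dvd_prime_iff_eq Nat.prime_two hp).1 ?_).symm
      exact Nat.prime_two.dvd_of_dvd_pow (hcard ▸ Nat.dvd_of_mod_eq_zero hev)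
    exact Or.inl ⟨F, inferInstance, inferInstance, hpc, h4, hly, hlx, ⟨e⟩⟩
  · rw [gcd_two_of_odd hodd] at hlx hly
    by_cases h5 : Fintype.card F = 5
    · obtain ⟨F', i1, i2, hc2, hc4, he⟩ := exists_four h5 e
      refine Or.inl ⟨F', i1, i2, hc2, by omega, ?_, ?_, he⟩ <;> rw [hc4] <;> simp
    by_cases h35 : Fintype.card F % 8 = 3 ∨ Fintype.card F % 8 = 5
    · exact Or.inr (Or.inl ⟨F, inferInstance, inferInstance, by omega, h35, hly, hlx, ⟨e⟩⟩)
    refine Or.inr (Or.inr ⟨F, inferInstance, inferInstance, ?_, ⟨e⟩⟩)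
    rcases (show Fintype.card F % 8 = 1 ∨ Fintype.card F % 8 = 7 by omega) with h' | h'
    · have := eq_four_of_length_le (by omega) hlx (Nat.dvd_of_mod_eq_zero (by omega))
      omega
    · have := eq_four_of_length_le (by omega) hly (Nat.dvd_of_mod_eq_zero (by omega))
      omega

end CfsgLib.CITFilter
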