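import Cfsg.Agent.Lib.CITFilter.Numbers
import Cfsg.Agent.Lib.Suzuki.Summary
import Cfsg.Agent.Lib.Suzuki.Sylow
import Cfsg.Agent.Lib.SuzukiMatrix.Bridge

/-!
# Element-order filters for the Suzuki groups
-/

set_option autoImplicit false

namespace CfsgLib.CITFilter

open CfsgLib.Suzuki

variable {G : Type*} [Group G] {F : Type*} [Field F] [Fintype F] {m : ℕ}

theorem exists_order_four (h : SzHyp F m) : ∃ x : Cfsg.Sz F m, orderOf x = 2 ^ 2 := by
  haveI : Fact (Nat.Prime 2) := ⟨Nat.prime_two⟩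
  refine ⟨tS h 1 0, orderOf_eq_prime_pow ?_ ?_⟩
  · intro hd
    rw [pow_one, sq, tS_sq, sig_one, one_mul] at hd
    exact one_ne_zero ((tS_eq_one h).1 hd).2
  · rw [show (2 : ℕ) ^ (1 + 1) = 2 * 2 by norm_num, pow_mul, sq, sq, tS_sq, tS_sq, sig_zero,
      mul_zero, tS_zero]

theorem sz_orders (h : SzHyp F m) :
    (∃ x : Cfsg.Sz F m, orderOf x = 2 ^ (2 * m + 1) - 1) ∧
    (∃ x : Cfsg.Sz F m, orderOf x = 2 ^ (2 * m + 1) + 2 ^ (m + 1) + 1) ∧
    ∃ x : Cfsg.Sz F m, orderOf x = 2 ^ (2 * m + 1) - 2 ^ (m + 1) + 1 := by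
  have key : ∀ U : Subgroup (Cfsg.Sz F m), IsCyclic U →
      ∃ x : Cfsg.Sz F m, orderOf x = Nat.card U := fun U hU => by
    obtain ⟨c, hc⟩ := IsCyclic.exists_ofOrder_eq_natCard (α := U)
    exact ⟨c.1, by rw [Subgroup.orderOf_coe, hc]⟩
  obtain ⟨U₁, U₂, h1, h2, hk1, hk2, -, -, -⟩ := tori_main h
  exact ⟨card_torus h ▸ key _ (isCyclic_torus h), hk1 ▸ key _ (h1.isCyclic h),
    hk2 ▸ key _ (h2.isCyclic h)⟩

theorem sz_oneComposite [Finite G] (h : OneComposite G) {F : Type} [Field F] [Fintype F]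
    (hS : SzHyp F m) (e : G ≃* Cfsg.Sz F m) :
    ∃ (F : Type) (_ : Field F) (_ : Fintype F), Fintype.card F = 8 ∧
      Nonempty (G ≃* ↥(Cfsg.Lie.Sz F 4)) := by
  suffices hm : m = 1 by
    subst hm
    exact ⟨F, inferInstance, inferInstance, by rw [hS.card]; norm_num,
      ⟨e.trans (SuzukiMatrix.szEquiv hS)⟩⟩
  obtain ⟨x, hx⟩ := exists_order_four hS
  have hx' : orderOf (e.symm x) = 4 := by rw [MulEquiv.orderOf_eq, hx]; norm_num
  obtain ⟨-, ⟨y, hy⟩, z, hz⟩ := sz_orders hS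
  -- `q² + 1` is divisible by five
  have hq5 : 5 ∣ (2 ^ (2 * m + 1) + 2 ^ (m + 1) + 1) * (2 ^ (2 * m + 1) - 2 ^ (m + 1) + 1) := by
    have hle : 2 ^ (m + 1) ≤ 2 ^ (2 * m + 1) := Nat.pow_le_pow_right two_pos (by omega)
    have hid : (2 ^ (2 * m + 1) + 2 ^ (m + 1) + 1) * (2 ^ (2 * m + 1) - 2 ^ (m + 1) + 1) =
        4 ^ (2 * m + 1) + 1 := by
      have e4 : (4 : ℕ) ^ (2 * m + 1) = 2 ^ (2 * m + 1) * 2 ^ (2 * m + 1) := by
        rw [← pow_add, show (4 : ℕ) = 2 ^ 2 by norm_num, ← pow_mul]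
        congr 1
        ring
      have er : 2 ^ (m + 1) * 2 ^ (m + 1) = 2 * 2 ^ (2 * m + 1) := by
        rw [← pow_add, ← pow_succ']
        congr 1
        ring
      rw [e4]
      zify [hle] at *
      linear_combination -1 * er
    rw [hid]
    refine Nat.dvd_of_mod_eq_zero ?_
    rw [Nat.add_mod, pow_succ, pow_mul, Nat.mul_mod, Nat.pow_mod]
    norm_num
  have hprime : ∀ w : Cfsg.Sz F m, orderOf w % 2 = 1 → 1 < orderOf w → (orderOf w).Prime := by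
    intro w h2 h1
    by_contra hp
    have := h.eq (x := e.symm w) (y := e.symm x) (by rwa [MulEquiv.orderOf_eq])
      (by rwa [MulEquiv.orderOf_eq]) (by omega) (by rw [hx']; norm_num)
    rw [hx', MulEquiv.orderOf_eq] at this
    omega
  have hq : 2 ^ (2 * m + 1) = 2 * (2 ^ m * 2 ^ m) := by
    rw [← pow_add, ← pow_succ']
    congr 1
    ring
  have hm1 : 2 ^ m ≥ 2 := le_trans (by norm_num) (Nat.pow_le_pow_right two_pos hS.one_le)
  have hr : 2 ^ (m + 1) = 2 * 2 ^ m := pow_succ' 2 m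
  have hm2 : 2 * 2 ^ m ≤ 2 ^ m * 2 ^ m := Nat.mul_le_mul_right _ hm1
  rcases (Nat.prime_five.dvd_mul).1 hq5 with hd | hd
  · have := (Nat.prime_dvd_prime_iff_eq Nat.prime_five (hy ▸ hprime y (by rw [hy]; omega)
      (by rw [hy]; omega))).1 hd
    omega
  · have := (Nat.prime_dvd_prime_iff_eq Nat.prime_five (hz ▸ hprime z (by rw [hz]; omega)
      (by rw [hz]; omega))).1 hd
    have h4 : 2 ^ m * (2 ^ m - 1) = 2 := by
      rw [Nat.mul_sub_one]
      omega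
    by_contra hm
    have hge : 4 ≤ 2 ^ m :=
      le_trans (by norm_num) (Nat.pow_le_pow_right two_pos (show 2 ≤ m by have := hS.one_le; omega))
    have := Nat.mul_le_mul hge (show 1 ≤ 2 ^ m - 1 by omega)
    omega

theorem sz_noThree [Finite G] (h : NoThree G) (hS : SzHyp F m) (e : G ≃* Cfsg.Sz F m) :
    ∃ n : ℕ, 1 ≤ n ∧ IsSimpleGroup G ∧
      Nat.card G = (2 ^ (2 * n + 1)) ^ 2 * ((2 ^ (2 * n + 1)) ^ 2 + 1) * (2 ^ (2 * n + 1) - 1) ∧
      (2 ^ (2 * n + 1) - 1).primeFactorsList.length ≤ 2 ∧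
      (2 ^ (2 * n + 1) - 2 ^ (n + 1) + 1).primeFactorsList.length ≤ 2 ∧
      (2 ^ (2 * n + 1) + 2 ^ (n + 1) + 1).primeFactorsList.length ≤ 2 := by
  obtain ⟨⟨x, hx⟩, ⟨y, hy⟩, z, hz⟩ := sz_orders hS
  have key : ∀ w : Cfsg.Sz F m, (orderOf w).primeFactorsList.length ≤ 2 := fun w => by
    simpa only [MulEquiv.orderOf_eq] using h.length_le (e.symm w)
  exact ⟨m, hS.one_le, e.isSimpleGroup_congr.2 (CfsgLib.Suzuki.isSimpleGroup hS),
    by rw [Nat.card_congr e.toEquiv, CfsgLib.Suzuki.card hS], hx ▸ key x, hz ▸ key z, hy ▸ key y⟩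

end CfsgLib.CITFilter
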