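import Cfsg.Agent.Lib.CITFilter.Linear
import Cfsg.Agent.Lib.CITFilter.Suzuki
import Cfsg.Agent.Lib.Linear.Card
import Cfsg.Agent.Lib.Present.BinIcosahedral

/-!
# Filtering the list of simple CIT groups by element orders
-/

set_option autoImplicit false

namespace CfsgLib.CITFilter

open Matrix

universe u

/-- The candidates left by the classification: `PSL₂(F)`, `PSL₃(4)`, a Suzuki group. -/
def Candidate (G : Type u) [Group G] : Prop :=
  (∃ (F : Type) (_ : Field F) (_ : Fintype F),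
      Nonempty (G ≃* ProjectiveSpecialLinearGroup (Fin 2) F)) ∨
  (∃ (F : Type) (_ : Field F) (_ : Fintype F), Fintype.card F = 4 ∧
      Nonempty (G ≃* ProjectiveSpecialLinearGroup (Fin 3) F)) ∨
  (∃ (F : Type) (_ : Field F) (_ : Fintype F) (m : ℕ), Suzuki.SzHyp F m ∧
      Nonempty (G ≃* Cfsg.Sz F m))

/-- A nonabelian simple `PSL₂(F)` has at least four field elements. -/
theorem four_le_of_psl {G : Type*} [Group G] [Finite G] [IsSimpleGroup G]
    (hab : ∃ a b : G, a * b ≠ b * a) {F : Type*} [Field F] [Fintype F]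
    (e : G ≃* ProjectiveSpecialLinearGroup (Fin 2) F) : 4 ≤ Fintype.card F := by
  by_contra hlt
  have h2 := Fintype.one_lt_card (α := F)
  have hSL := CfsgLib.Linear.card_PSL_mul (n := Fin 2) (F := F)
  rw [CfsgLib.Linear.card_SL_two, Fintype.card_fin, ← Nat.card_congr e.toEquiv] at hSL
  have hG : Nat.card G = 6 ∨ Nat.card G = 12 := by
    rcases (show Fintype.card F = 2 ∨ Fintype.card F = 3 by omega) with hc | hc <;>
      rw [hc] at hSL <;> norm_num at hSL <;> omega
  obtain ⟨a, b, hne⟩ := hab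
  have hsol : Group.IsSolvable G :=
    CfsgLib.Present.isSolvable_of_card_dvd_sixty
      (by rcases hG with h | h <;> rw [h] <;> norm_num) (by omega)
  exact hne (IsSimpleGroup.comm_iff_isSolvable.mpr hsol a b)

/-- Simple groups with at most one composite element order, on the candidate list. -/
theorem conclusion_oneComposite {G : Type u} [Group G] [Finite G] [IsSimpleGroup G]
    (hab : ∃ a b : G, a * b ≠ b * a) (h : OneComposite G) (hc : Candidate G) :
    (∃ (F : Type) (_ : Field F) (_ : Fintype F), (Fintype.card F = 5 ∨ Fintype.card F = 7 ∨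
        Fintype.card F = 8 ∨ Fintype.card F = 9 ∨ Fintype.card F = 11 ∨ Fintype.card F = 13 ∨
        Fintype.card F = 16) ∧ Nonempty (G ≃* ProjectiveSpecialLinearGroup (Fin 2) F)) ∨
    (∃ (F : Type) (_ : Field F) (_ : Fintype F), Fintype.card F = 4 ∧
        Nonempty (G ≃* ProjectiveSpecialLinearGroup (Fin 3) F)) ∨
    (∃ (F : Type) (_ : Field F) (_ : Fintype F), Fintype.card F = 8 ∧
        Nonempty (G ≃* ↥(Cfsg.Lie.Sz F 4))) ∨
    (∃ (F : Type) (_ : Field F) (_ : Fintype F), ∃ n r s : ℕ, r.Prime ∧ s.Prime ∧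
        3 ^ n - 1 = 2 * r ∧ 3 ^ n + 1 = 4 * s ∧
        Fintype.card F = 3 ^ n ∧ Nonempty (G ≃* ProjectiveSpecialLinearGroup (Fin 2) F)) ∨
    (∃ (F : Type) (_ : Field F) (_ : Fintype F), ∃ n r : ℕ, (2 ^ n - 1).Prime ∧ r.Prime ∧
        2 ^ n + 1 = 3 * r ∧
        Fintype.card F = 2 ^ n ∧ Nonempty (G ≃* ProjectiveSpecialLinearGroup (Fin 2) F)) := by
  rcases hc with ⟨F, _, _, ⟨e⟩⟩ | hc | ⟨F, _, _, m, hS, ⟨e⟩⟩
  · rcases psl_oneComposite h (four_le_of_psl hab e) e with h' | h' | h'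
    · exact Or.inl h'
    · exact Or.inr (Or.inr (Or.inr (Or.inl h')))
    · exact Or.inr (Or.inr (Or.inr (Or.inr h')))
  · exact Or.inr (Or.inl hc)
  · exact Or.inr (Or.inr (Or.inl (sz_oneComposite h hS e)))

/-- Simple groups in which no prime divides three element orders, on the candidate list. -/
theorem conclusion_noThree {G : Type u} [Group G] [Finite G] [IsSimpleGroup G]
    (hab : ∃ a b : G, a * b ≠ b * a) (h : NoThree G) (hc : Candidate G) :
    (∃ (F : Type) (_ : Field F) (_ : Fintype F), CharP F 2 ∧ 4 ≤ Fintype.card F ∧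
        (Fintype.card F + 1).primeFactorsList.length ≤ 2 ∧
        (Fintype.card F - 1).primeFactorsList.length ≤ 2 ∧
        Nonempty (G ≃* ProjectiveSpecialLinearGroup (Fin 2) F)) ∨
    (∃ (F : Type) (_ : Field F) (_ : Fintype F), 5 < Fintype.card F ∧
        (Fintype.card F % 8 = 3 ∨ Fintype.card F % 8 = 5) ∧
        ((Fintype.card F + 1) / 2).primeFactorsList.length ≤ 2 ∧
        ((Fintype.card F - 1) / 2).primeFactorsList.length ≤ 2 ∧
        Nonempty (G ≃* ProjectiveSpecialLinearGroup (Fin 2) F)) ∨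
    (∃ (F : Type) (_ : Field F) (_ : Fintype F), (Fintype.card F = 7 ∨ Fintype.card F = 9) ∧
        Nonempty (G ≃* ProjectiveSpecialLinearGroup (Fin 2) F)) ∨
    (∃ (F : Type) (_ : Field F) (_ : Fintype F), Fintype.card F = 4 ∧
        Nonempty (G ≃* ProjectiveSpecialLinearGroup (Fin 3) F)) ∨
    (∃ n : ℕ, 1 ≤ n ∧ IsSimpleGroup G ∧
        Nat.card G = (2 ^ (2 * n + 1)) ^ 2 * ((2 ^ (2 * n + 1)) ^ 2 + 1) * (2 ^ (2 * n + 1) - 1) ∧
        (2 ^ (2 * n + 1) - 1).primeFactorsList.length ≤ 2 ∧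
        (2 ^ (2 * n + 1) - 2 ^ (n + 1) + 1).primeFactorsList.length ≤ 2 ∧
        (2 ^ (2 * n + 1) + 2 ^ (n + 1) + 1).primeFactorsList.length ≤ 2) := by
  rcases hc with ⟨F, _, _, ⟨e⟩⟩ | hc | ⟨F, _, _, m, hS, ⟨e⟩⟩
  · rcases psl_noThree h (four_le_of_psl hab e) e with h' | h' | h'
    · exact Or.inl h'
    · exact Or.inr (Or.inl h')
    · exact Or.inr (Or.inr (Or.inl h'))
  · exact Or.inr (Or.inr (Or.inr (Or.inl hc)))
  · exact Or.inr (Or.inr (Or.inr (Or.inr (sz_noThree h hS e))))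

end CfsgLib.CITFilter
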