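import Mathlib

/-!
# Element-order conditions: one composite order, no prime in three orders

Arithmetic consequences of the hypotheses of the two consumers of the classification of CIT groups.
-/

set_option autoImplicit false

namespace CfsgLib.CITFilter

/-- At most one element order is composite. -/
def OneComposite (G : Type*) [Group G] : Prop :=
  {n : ℕ | n ∈ Set.range (orderOf : G → ℕ) ∧ 1 < n ∧ ¬ n.Prime}.Subsingleton

/-- No prime divides three pairwise distinct element orders. -/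
def NoThree (G : Type*) [Group G] : Prop :=
  ∀ p : ℕ, p.Prime → ∀ a b c : G, orderOf a ≠ orderOf b → orderOf b ≠ orderOf c →
    orderOf a ≠ orderOf c → ¬ (p ∣ orderOf a ∧ p ∣ orderOf b ∧ p ∣ orderOf c)

variable {G : Type*} [Group G]

theorem OneComposite.eq (h : OneComposite G) {x y : G} (hx : 1 < orderOf x)
    (hxp : ¬ (orderOf x).Prime) (hy : 1 < orderOf y) (hyp : ¬ (orderOf y).Prime) :
    orderOf x = orderOf y :=
  h ⟨⟨x, rfl⟩, hx, hxp⟩ ⟨⟨y, rfl⟩, hy, hyp⟩

theorem OneComposite.prime_of_dvd [Finite G] (h : OneComposite G) {x : G} (hxp : ¬ (orderOf x).Prime)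
    {d : ℕ} (hd : d ∣ orderOf x) (h1 : 1 < d) (hne : d ≠ orderOf x) : d.Prime := by
  by_contra hdp
  have hx : 1 < orderOf x :=
    lt_of_lt_of_le h1 (Nat.le_of_dvd (orderOf_pos x) hd)
  have he : orderOf (x ^ (orderOf x / d)) = d := orderOf_pow_orderOf_div (orderOf_pos x).ne' hd
  exact hne (he ▸ (h.eq (x := x) (y := x ^ (orderOf x / d)) hx hxp (by rw [he]; exact h1)
    (by rw [he]; exact hdp)).symm)

/-- A composite order `s * t` has prime cofactor `t` for `1 < s`. -/
theorem OneComposite.prime_cofactor [Finite G] (h : OneComposite G) {x : G} {s t : ℕ}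
    (hst : orderOf x = s * t) (hs : 1 < s) (ht : 1 < t) : t.Prime := by
  refine h.prime_of_dvd ?_ (hst ▸ dvd_mul_left t s) ht ?_
  · rw [hst]; exact Nat.not_prime_mul hs.ne' ht.ne'
  · rw [hst]
    nlinarith

theorem OneComposite.eq_four [Finite G] (h : OneComposite G) {x : G} (h4 : 4 ∣ orderOf x) :
    orderOf x = 4 := by
  obtain ⟨k, hk⟩ := h4
  rcases Nat.lt_or_ge 1 k with h1 | h1
  · exfalso
    have : (2 * k).Prime := h.prime_cofactor (x := x) (s := 2) (by rw [hk]; ring) (by omega)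
      (by omega)
    exact Nat.not_prime_mul (by omega) h1.ne' this
  · have := orderOf_pos x
    interval_cases k <;> omega

theorem NoThree.length_le [Finite G] (h : NoThree G) (x : G) :
    (orderOf x).primeFactorsList.length ≤ 2 := by
  have hpos := orderOf_pos x
  have hmem := @Nat.prime_of_mem_primeFactorsList (orderOf x)
  have hprod := Nat.prod_primeFactorsList hpos.ne'
  by_contra hlen
  obtain ⟨a, b, c, l, hl⟩ : ∃ a b c l, (orderOf x).primeFactorsList = a :: b :: c :: l := by
    rcases hl : (orderOf x).primeFactorsList with _ | ⟨a, _ | ⟨b, _ | ⟨c, l⟩⟩⟩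
    · simp [hl] at hlen
    · simp [hl] at hlen
    · simp [hl] at hlen
    · exact ⟨a, b, c, l, rfl⟩
  rw [hl] at hprod
  have ha : a.Prime := hmem (by simp [hl])
  have hb : b.Prime := hmem (by simp [hl])
  have hc : c.Prime := hmem (by simp [hl])
  have hlp : 0 < l.prod := by
    refine List.prod_pos ?_
    intro p hp
    exact (hmem (by simp [hl, hp])).pos
  rw [List.prod_cons, List.prod_cons, List.prod_cons] at hprod
  have hm : 1 < c * l.prod := lt_of_lt_of_le hc.one_lt (Nat.le_mul_of_pos_right c hlp)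
  have d1 : a * b ∣ orderOf x := ⟨c * l.prod, by rw [← hprod]; ring⟩
  have d2 : a ∣ orderOf x := (dvd_mul_right a b).trans d1
  have e1 := orderOf_pow_orderOf_div hpos.ne' d1
  have e2 := orderOf_pow_orderOf_div hpos.ne' d2
  have h12 : a * b < orderOf x := by
    rw [← hprod, ← mul_assoc]
    exact lt_mul_of_one_lt_right (Nat.mul_pos ha.pos hb.pos) hm
  have h23 : a < a * b := lt_mul_of_one_lt_right ha.pos hb.one_lt
  refine h a ha x (x ^ (orderOf x / (a * b))) (x ^ (orderOf x / a)) ?_ ?_ ?_ ⟨d2, ?_, ?_⟩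
  · rw [e1]; omega
  · rw [e1, e2]; omega
  · rw [e2]; omega
  · rw [e1]; exact dvd_mul_right a b
  · rw [e2]

theorem eq_four_of_length_le {n : ℕ} (hn : n ≠ 0) (h : n.primeFactorsList.length ≤ 2)
    (h4 : 4 ∣ n) : n = 4 := by
  obtain ⟨k, rfl⟩ := h4
  have hk : k ≠ 0 := by rintro rfl; simp at hn
  rw [(Nat.perm_primeFactorsList_mul (by norm_num : (4 : ℕ) ≠ 0) hk).length_eq,
    List.length_append, show (4 : ℕ).primeFactorsList.length = 2 by simp] at h
  have h0 : k.primeFactorsList = [] := List.length_eq_zero_iff.1 (by omega)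
  rcases ((Nat.primeFactorsList_eq_nil k).1 h0) with h1 | h1 <;> omega

theorem mulEquiv {H : Type*} [Group H] (e : G ≃* H) :
    (OneComposite G → OneComposite H) ∧ (NoThree G → NoThree H) := by
  refine ⟨fun h => ?_, fun h p hp a b c hab hbc hac hd => ?_⟩
  · rintro m ⟨⟨x, rfl⟩, hm⟩ n ⟨⟨y, rfl⟩, hn⟩
    exact h ⟨⟨e.symm x, e.symm.orderOf_eq x⟩, hm⟩ ⟨⟨e.symm y, e.symm.orderOf_eq y⟩, hn⟩
  · refine h p hp (e.symm a) (e.symm b) (e.symm c) ?_ ?_ ?_ ?_ <;>
      simpa only [MulEquiv.orderOf_eq] using ‹_›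

/-- Either all even orders are powers of two, or the unique composite order is twice an odd
prime. -/
theorem OneComposite.split [Finite G] (h : OneComposite G) :
    (∀ t : G, orderOf t = 2 → IsPGroup 2 (Subgroup.centralizer ({t} : Set G))) ∨
      ∃ r : ℕ, r.Prime ∧ r ≠ 2 ∧ (∀ g : G, 2 ∣ orderOf g → orderOf g = 2 ∨ orderOf g = 2 * r) ∧
        ∀ g : G, r ∣ orderOf g → orderOf g = r ∨ orderOf g = 2 * r := by
  by_cases hall : ∀ t : G, orderOf t = 2 → IsPGroup 2 (Subgroup.centralizer ({t} : Set G))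
  · exact Or.inl hall
  right
  push Not at hall
  obtain ⟨t, ht, hC⟩ := hall
  rw [IsPGroup.iff_card] at hC
  push Not at hC
  obtain ⟨r, hr, hr2, hrd⟩ : ∃ r : ℕ, r.Prime ∧ r ≠ 2 ∧
      r ∣ Nat.card (Subgroup.centralizer ({t} : Set G)) := by
    by_contra hno
    push Not at hno
    refine hC _ (Nat.eq_prime_pow_of_unique_prime_dvd (Nat.card_pos.ne') fun {d} hd hdd => ?_)
    by_contra hd2
    exact hno d hd hd2 hdd
  haveI := Fact.mk hr
  obtain ⟨⟨u, hu⟩, hu'⟩ := exists_prime_orderOf_dvd_card' r hrd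
  rw [Subgroup.orderOf_mk] at hu'
  have hcop : (orderOf t).Coprime (orderOf u) := by
    rw [ht, hu', Nat.coprime_primes Nat.prime_two hr]
    exact hr2.symm
  have htu : orderOf (t * u) = 2 * r := by
    rw [Commute.orderOf_mul_eq_mul_orderOf_of_coprime
      (Subgroup.mem_centralizer_singleton_iff.1 hu).symm hcop, ht, hu']
  have h2r : ∀ g : G, 1 < orderOf g → orderOf g = 2 * r ∨ (orderOf g).Prime := fun g hg => by
    by_cases hp : (orderOf g).Prime
    · exact Or.inr hp
    · refine Or.inl (htu ▸ h.eq (x := g) (y := t * u) hg hp ?_ ?_)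
      · rw [htu]; have := hr.two_le; omega
      · rw [htu]; exact Nat.not_prime_mul (by norm_num) hr.ne_one
  refine ⟨r, hr, hr2, fun g hg => ?_, fun g hg => ?_⟩
  · rcases h2r g (lt_of_lt_of_le one_lt_two (Nat.le_of_dvd (orderOf_pos g) hg)) with h' | h'
    · exact Or.inr h'
    · exact Or.inl ((Nat.prime_dvd_prime_iff_eq Nat.prime_two h').1 hg).symm
  · rcases h2r g (lt_of_lt_of_le hr.one_lt (Nat.le_of_dvd (orderOf_pos g) hg)) with h' | h'
    · exact Or.inr h'
    · exact Or.inl ((Nat.prime_dvd_prime_iff_eq hr h').1 hg).symm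

end CfsgLib.CITFilter
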